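import Mathlib

/-! Numeric bounds for nilpotent permutation groups. -/

namespace CfsgLib.NilpotentPerm

/-- exponent of 2 in `n!` -/
def e (n : ℕ) : ℕ := padicValNat 2 n.factorial

lemma e_add_le (a b : ℕ) : e a + e b ≤ e (a + b) := by
  unfold e
  rw [← padicValNat.mul a.factorial_ne_zero b.factorial_ne_zero]
  exact (padicValNat_dvd_iff_le (a + b).factorial_ne_zero).mp
    (pow_padicValNat_dvd.trans (Nat.factorial_mul_factorial_dvd_factorial_add a b))

lemma e_mono {a b : ℕ} (h : a ≤ b) : e a ≤ e b := by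
  have := e_add_le a (b - a)
  rw [Nat.add_sub_cancel' h] at this
  omega

lemma e_two_mul (n : ℕ) : e (2 * n) = n + e n := by
  unfold e; rw [padicValNat_factorial_mul]; omega

lemma e_two_mul_add_one (n : ℕ) : e (2 * n + 1) = n + e n := by
  unfold e; rw [padicValNat_factorial_mul_add n (by norm_num : 1 < 2), padicValNat_factorial_mul]; omega

lemma e_zero : e 0 = 0 := by simp [e]
lemma e_one : e 1 = 0 := by simp [e]

lemma e_step (q : ℕ) :
    e (4*q) = 3*q + e q ∧ e (4*q+1) = 3*q + e q ∧ e (4*q+2) = 3*q+1 + e q ∧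
      e (4*q+3) = 3*q+1 + e q := by
  refine ⟨?_, ?_, ?_, ?_⟩
  · rw [show 4*q = 2*(2*q) by ring, e_two_mul, e_two_mul]; ring
  · rw [show 4*q+1 = 2*(2*q)+1 by ring, e_two_mul_add_one, e_two_mul]; ring
  · rw [show 4*q+2 = 2*(2*q+1) by ring, e_two_mul, e_two_mul_add_one]; ring
  · rw [show 4*q+3 = 2*(2*q+1)+1 by ring, e_two_mul_add_one, e_two_mul_add_one]; ring

/-- coefficient -/
def c : ℕ → ℕ
  | 0 => 1
  | 1 => 1
  | 2 => 2
  | _ => 3

/-- the bound for nilpotent subgroups of `S_n` -/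
def M (n : ℕ) : ℕ := c (n % 4) * 2 ^ (3 * (n / 4) + e (n / 4))

lemma M_four (q j : ℕ) (hj : j < 4) : M (4 * q + j) = c j * 2 ^ (3 * q + e q) := by
  unfold M; rw [show (4*q+j) % 4 = j by omega, show (4*q+j)/4 = q by omega]

lemma M_eq_of_mod_ne {n : ℕ} (h : n % 4 ≠ 3) : M n = 2 ^ e n := by
  obtain ⟨q, j, hj, rfl⟩ : ∃ q j, j < 4 ∧ n = 4 * q + j := ⟨n/4, n%4, by omega, by omega⟩
  obtain ⟨h0, h1, h2, -⟩ := e_step q
  rw [M_four q j hj]
  have : j = 0 ∨ j = 1 ∨ j = 2 := by omega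
  rcases this with rfl | rfl | rfl
  · rw [add_zero, h0]; simp [c]
  · rw [h1]; simp [c]
  · rw [h2]; simp only [c]; ring

lemma M_eq_of_mod {n : ℕ} (h : n % 4 = 3) : M n = 3 * 2 ^ e (n - 3) := by
  obtain ⟨h0, -⟩ := e_step (n / 4)
  rw [show n - 3 = 4 * (n/4) by omega, h0, M, h]
  rfl

lemma two_pow_e_le (n : ℕ) : 2 ^ e n ≤ M n := by
  by_cases h : n % 4 = 3
  · rw [M_eq_of_mod h]
    obtain ⟨h0, -, -, h3⟩ := e_step (n / 4)
    have a : e n = e (n - 3) + 1 := by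
      conv_lhs => rw [show n = 4 * (n/4) + 3 by omega, h3]
      rw [show n - 3 = 4 * (n/4) by omega, h0]; ring
    rw [a, pow_succ]; omega
  · rw [M_eq_of_mod_ne h]

lemma M_pos (n : ℕ) : 0 < M n := lt_of_lt_of_le (by positivity) (two_pow_e_le n)

lemma c_le (i : ℕ) : c i ≤ 3 := by
  match i with
  | 0 => simp [c]
  | 1 => simp [c]
  | 2 => simp [c]
  | _ + 3 => simp [c]

lemma M_mul_le (a b : ℕ) : M a * M b ≤ M (a + b) := by
  obtain ⟨qa, ja, hja, rfl⟩ : ∃ q j, j < 4 ∧ a = 4 * q + j := ⟨a/4, a%4, by omega, by omega⟩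
  obtain ⟨qb, jb, hjb, rfl⟩ : ∃ q j, j < 4 ∧ b = 4 * q + j := ⟨b/4, b%4, by omega, by omega⟩
  obtain ⟨qc, jc, hjc, hs, hq⟩ : ∃ q j, j < 4 ∧ ja + jb = 4 * q + j ∧ q ≤ 1 :=
    ⟨(ja+jb)/4, (ja+jb)%4, by omega, by omega, by omega⟩
  rw [show 4*qa+ja + (4*qb+jb) = 4*(qa+qb+qc) + jc by omega, M_four _ _ hja, M_four _ _ hjb,
    M_four _ _ hjc]
  have he : e qa + e qb ≤ e (qa + qb + qc) := (e_add_le qa qb).trans (e_mono (by omega))
  have hc : c ja * c jb ≤ c jc * 2 ^ (3 * qc) := by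
    interval_cases ja <;> interval_cases jb <;>
      (have h1 : qc = (_ : ℕ) / 4 := (show qc = (4*qc+jc)/4 by omega).trans (by rw [← hs]);
       have h2 : jc = (_ : ℕ) % 4 := (show jc = (4*qc+jc)%4 by omega).trans (by rw [← hs]);
       norm_num at h1 h2; subst h1 h2; simp [c])
  calc c ja * 2 ^ (3*qa + e qa) * (c jb * 2 ^ (3*qb + e qb))
      = (c ja * c jb) * (2 ^ (3*(qa+qb)) * 2 ^ (e qa + e qb)) := by ring
    _ ≤ (c jc * 2 ^ (3*qc)) * (2 ^ (3*(qa+qb)) * 2 ^ e (qa+qb+qc)) :=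
        Nat.mul_le_mul hc (Nat.mul_le_mul le_rfl (Nat.pow_le_pow_right (by norm_num) he))
    _ = _ := by ring

lemma M_mono {a b : ℕ} (h : a ≤ b) : M a ≤ M b := by
  have := M_mul_le a (b - a)
  rw [Nat.add_sub_cancel' h] at this
  exact le_trans (Nat.le_mul_of_pos_right _ (M_pos _)) this

lemma M_pow_le (a : ℕ) : ∀ k, M a ^ k ≤ M (a * k)
  | 0 => by have := M_pos (a * 0); rw [pow_zero]; omega
  | k + 1 => by
    rw [pow_succ, mul_add, mul_one]
    exact (Nat.mul_le_mul_right _ (M_pow_le a k)).trans (M_mul_le _ _)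

/-- evaluation of `e` -/
lemma e_small : e 2 = 1 ∧ e 3 = 1 ∧ e 4 = 3 ∧ e 5 = 3 ∧ e 6 = 4 ∧ e 7 = 4 ∧ e 8 = 7 := by
  obtain ⟨a0, a1, a2, a3⟩ := e_step 0
  obtain ⟨b0, b1, b2, b3⟩ := e_step 1
  obtain ⟨c0, -⟩ := e_step 2
  simp only [e_zero, e_one] at *
  norm_num at *
  rw [a2] at c0
  exact ⟨a2, a3, b0, b1, b2, b3, by omega⟩

lemma M_vals : M 0 = 1 ∧ M 1 = 1 ∧ M 2 = 2 ∧ M 3 = 3 ∧ M 4 = 8 ∧ M 5 = 8 ∧ M 6 = 16 ∧ M 7 = 24 ∧
    M 8 = 128 ∧ M 9 = 128 ∧ M 10 = 256 ∧ M 11 = 384 ∧ M 12 = 1024 ∧ M 13 = 1024 ∧ M 14 = 2048 ∧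
    M 15 = 3072 ∧ M 16 = 32768 ∧ M 18 = 65536 ∧ M 20 = 262144 ∧ M 21 = 262144 ∧ M 22 = 524288 ∧
    M 27 = 12582912 := by
  obtain ⟨h2, h3, h4, h5, h6, h7, h8⟩ := e_small
  simp [M, c, e_zero, e_one, h2, h3, h4, h5, h6]

lemma three_pow_le_M : ∀ k, (k = 4 ∨ k = 5 ∨ k = 6 ∨ 8 ≤ k) → 3 ^ k ≤ M (2 * k) := by
  intro k
  induction k using Nat.strong_induction_on with
  | _ k ih =>
    intro hk
    have hv := M_vals
    by_cases h12 : 12 ≤ k
    · have h1 := ih (k - 4) (by omega) (by omega)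
      have h2 := M_mul_le (2 * (k - 4)) 8
      rw [show 2 * (k-4) + 8 = 2 * k by omega] at h2
      calc 3 ^ k = 3 ^ (k - 4) * 3 ^ 4 := by rw [← pow_add]; congr 1; omega
        _ ≤ M (2 * (k-4)) * M 8 := Nat.mul_le_mul h1 (by omega)
        _ ≤ _ := h2
    · have : k = 4 ∨ k = 5 ∨ k = 6 ∨ k = 8 ∨ k = 9 ∨ k = 10 ∨ k = 11 := by omega
      rcases this with rfl | rfl | rfl | rfl | rfl | rfl | rfl <;> norm_num <;> omega

/-- `p^k M(k) ≤ M(pk)` except for `p = 3, k = 2`. -/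
lemma pow_mul_M_le {p k : ℕ} (hp : p.Prime) (hp2 : p ≠ 2) (h : p ≠ 3 ∨ k ≠ 2) :
    p ^ k * M k ≤ M (p * k) := by
  have hv := M_vals
  have h2 := hp.two_le
  rcases eq_or_ne p 3 with rfl | hp3
  · have hk2 : k ≠ 2 := h.resolve_left (by simp)
    have hsmall : k = 0 ∨ k = 1 ∨ k = 3 ∨ k = 7 ∨ (k = 4 ∨ k = 5 ∨ k = 6 ∨ 8 ≤ k) := by omega
    rcases hsmall with rfl | rfl | rfl | rfl | hk
    · norm_num
    · norm_num; omega
    · norm_num; omega
    · norm_num; omega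
    refine (Nat.mul_le_mul_right _ (three_pow_le_M k hk)).trans ?_
    refine (M_mul_le _ _).trans (le_of_eq ?_)
    congr 1; ring
  · have hb := pred_prime_bound hp hp2 hp3
    refine (Nat.mul_le_mul_right _ ((Nat.pow_le_pow_left hb k).trans (M_pow_le _ k))).trans ?_
    refine (M_mul_le _ _).trans (le_of_eq ?_)
    congr 1
    conv_rhs => rw [show p = (p - 1) + 1 by omega]
    ring
where
  pred_prime_bound {p : ℕ} (hp : p.Prime) (hp2 : p ≠ 2) (hp3 : p ≠ 3) : p ≤ M (p - 1) := by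
    have h2 := hp.two_le
    obtain ⟨r, hr⟩ := hp.eq_two_or_odd'.resolve_left hp2
    have h8 : ∀ q, 1 ≤ q → 5 * q + 2 ≤ 8 ^ q := by
      intro q hq
      induction q, hq using Nat.le_induction with
      | base => norm_num
      | succ q hq ih => rw [pow_succ]; omega
    have hpow := M_pow_le 4 ((p-1)/4)
    have hm := M_mono (show 4 * ((p-1)/4) ≤ p - 1 by omega)
    rw [M_vals.2.2.2.2.1] at hpow
    have := h8 ((p-1)/4) (by omega)
    omega

/-- the bound for nilpotent subgroups of `A_n` -/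
def B (n : ℕ) : ℕ :=
  if n ≤ 3 then (if n = 3 then 3 else 1) else
  if n = 5 then 5 else if n = 6 then 9 else if n = 9 then 81 else M n / 2

lemma two_dvd_M {n : ℕ} (h : 4 ≤ n) : 2 ∣ M n := by
  unfold M
  exact Dvd.dvd.mul_left (dvd_pow_self 2 (by omega)) _

lemma two_mul_B {n : ℕ} (h : 4 ≤ n) (h5 : n ≠ 5) (h6 : n ≠ 6) (h9 : n ≠ 9) : 2 * B n = M n := by
  unfold B
  rw [if_neg (by omega), if_neg h5, if_neg h6, if_neg h9, Nat.mul_div_cancel' (two_dvd_M h)]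

lemma B_vals : B 0 = 1 ∧ B 1 = 1 ∧ B 2 = 1 ∧ B 3 = 3 ∧ B 4 = 4 ∧ B 5 = 5 ∧ B 6 = 9 ∧ B 7 = 12 ∧
    B 8 = 64 ∧ B 9 = 81 := by
  have := M_vals
  simp only [B]
  norm_num
  omega

lemma B_pos (n : ℕ) : 0 < B n := by
  have hv := B_vals
  by_cases h : 10 ≤ n
  · have := two_mul_B (n := n) (by omega) (by omega) (by omega) (by omega)
    have := M_pos n; omega
  · interval_cases n <;> omega

/-- `B` is supermultiplicative -/
lemma B_mul_le (a b : ℕ) : B a * B b ≤ B (a + b) := by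
  have hv := B_vals
  have hm := M_vals
  by_cases hbig : 10 ≤ a + b
  swap
  · have ha : a < 10 := by omega
    interval_cases a <;> (have hb : b < 10 := by omega) <;> interval_cases b <;> first | omega | simp_all
  have hab := two_mul_B (n := a + b) (by omega) (by omega) (by omega) (by omega)
  have key : ∀ u w, u + w = a + b → 4 ≤ w → w ≠ 5 → w ≠ 6 → w ≠ 9 → B u * B w ≤ B (a + b) := by
    intro u w huw hw h5 h6 h9
    have hw' := two_mul_B hw h5 h6 h9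
    have hu : B u ≤ M u ∨ u = 5 ∨ u = 6 ∨ u = 9 := by
      by_cases h : 4 ≤ u ∧ u ≠ 5 ∧ u ≠ 6 ∧ u ≠ 9
      · left; have := two_mul_B h.1 h.2.1 h.2.2.1 h.2.2.2; omega
      · have : u ≤ 3 ∨ u = 5 ∨ u = 6 ∨ u = 9 := by omega
        rcases this with h | h | h | h <;> [left; (right; omega); (right; omega); (right; omega)]
        interval_cases u <;> omega
    have hu' : B u ≤ M u := by
      rcases hu with h | rfl | rfl | rfl <;> omega
    have : 2 * (B u * B w) ≤ 2 * B (a + b) := by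
      calc 2 * (B u * B w) = B u * M w := by rw [← hw']; ring
        _ ≤ M u * M w := Nat.mul_le_mul_right _ hu'
        _ ≤ M (u + w) := M_mul_le _ _
        _ = 2 * B (a + b) := by rw [huw, hab]
    omega
  by_cases hb : 4 ≤ b ∧ b ≠ 5 ∧ b ≠ 6 ∧ b ≠ 9
  · exact key a b rfl hb.1 hb.2.1 hb.2.2.1 hb.2.2.2
  by_cases ha : 4 ≤ a ∧ a ≠ 5 ∧ a ≠ 6 ∧ a ≠ 9
  · rw [mul_comm]; exact key b a (add_comm b a) ha.1 ha.2.1 ha.2.2.1 ha.2.2.2
  have ha' : a < 10 := by omega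
  have hb' : b < 10 := by omega
  have ha'' : a = 0 ∨ a = 1 ∨ a = 2 ∨ a = 3 ∨ a = 5 ∨ a = 6 ∨ a = 9 := by omega
  have hb'' : b = 0 ∨ b = 1 ∨ b = 2 ∨ b = 3 ∨ b = 5 ∨ b = 6 ∨ b = 9 := by omega
  have hab' : 2 * (B a * B b) ≤ M (a + b) := by
    rcases ha'' with rfl | rfl | rfl | rfl | rfl | rfl | rfl <;>
      rcases hb'' with rfl | rfl | rfl | rfl | rfl | rfl | rfl <;>
      first | omega | simp [hv, hm]
  omega

lemma B_mono {a b : ℕ} (h : a ≤ b) : B a ≤ B b := by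
  have := B_mul_le a (b - a)
  rw [Nat.add_sub_cancel' h] at this
  exact le_trans (Nat.le_mul_of_pos_right _ (B_pos _)) this

lemma two_pow_e_div_le (n : ℕ) : 2 ^ e n / 2 ≤ B n := by
  have hv := B_vals
  by_cases h : 4 ≤ n ∧ n ≠ 5 ∧ n ≠ 6 ∧ n ≠ 9
  · have := two_mul_B h.1 h.2.1 h.2.2.1 h.2.2.2
    have := two_pow_e_le n; omega
  · have hm := M_vals
    have := two_pow_e_le n
    have : n ≤ 3 ∨ n = 5 ∨ n = 6 ∨ n = 9 := by omega
    rcases this with h | rfl | rfl | rfl <;> [interval_cases n; skip; skip; skip] <;> omega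

lemma prime_le_B {p : ℕ} (hp : p.Prime) (hp2 : p ≠ 2) : p ≤ B p := by
  have hv := B_vals
  have h2 := hp.two_le
  by_cases h : p = 3 ∨ p = 5
  · rcases h with rfl | rfl <;> omega
  push Not at h
  have hb := pow_mul_M_le.pred_prime_bound hp hp2 h.1
  obtain ⟨r, hr⟩ := hp.eq_two_or_odd'.resolve_left hp2
  have h9 : p ≠ 9 := by rintro rfl; norm_num at hp
  have := two_mul_B (n := p) (by omega) h.2 (by omega) h9
  have h7 : p = 7 ∨ 11 ≤ p := by omega
  rcases h7 with rfl | h11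
  · omega
  have hm := M_mul_le (p - 3) 3
  rw [show p - 3 + 3 = p by omega] at hm
  have hp3 : 2 * p ≤ M (p - 3) * M 3 := by
    obtain ⟨q, hq⟩ : ∃ q, q = (p - 3) / 4 := ⟨_, rfl⟩
    have h8 : ∀ q, 2 ≤ q → 6 * q + 12 ≤ 8 ^ q := by
      intro q hq
      induction q, hq using Nat.le_induction with
      | base => norm_num
      | succ q hq ih => rw [pow_succ]; omega
    have hpow := M_pow_le 4 q
    rw [M_vals.2.2.2.2.1] at hpow
    have hmm := M_mono (show 4 * q ≤ p - 3 by omega)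
    have := h8 q (by omega)
    rw [M_vals.2.2.2.1]
    omega
  omega

/-- the inequality needed for `k ≥ 4` cycles -/
lemma pow_mul_B_mul_M_le {p k r : ℕ} (hp : p.Prime) (hp2 : p ≠ 2) (hk : 4 ≤ k ∨ (p ≠ 3 ∧ 2 ≤ k)) :
    p ^ k * B k * M r ≤ B (p * k + r) := by
  have h3 : 3 ≤ p := by have := hp.two_le; omega
  have h10 : 10 ≤ p * k + r := by
    rcases hk with h | ⟨h, h'⟩
    · nlinarith
    · have : 5 ≤ p := by
        have : p ≠ 4 := by rintro rfl; norm_num at hp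
        omega
      nlinarith
  have hn := two_mul_B (n := p * k + r) (by omega) (by omega) (by omega) (by omega)
  suffices h : 2 * (p ^ k * B k) ≤ M (p * k) by
    have : 2 * (p ^ k * B k * M r) ≤ 2 * B (p * k + r) := by
      rw [hn]
      calc 2 * (p ^ k * B k * M r) = 2 * (p ^ k * B k) * M r := by ring
        _ ≤ M (p*k) * M r := Nat.mul_le_mul_right _ h
        _ ≤ _ := M_mul_le _ _
    omega
  by_cases hgood : 4 ≤ k ∧ k ≠ 5 ∧ k ≠ 6 ∧ k ≠ 9
  · rw [show 2 * (p ^ k * B k) = p ^ k * (2 * B k) by ring,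
      two_mul_B hgood.1 hgood.2.1 hgood.2.2.1 hgood.2.2.2]
    exact pow_mul_M_le hp hp2 (Or.inr (by omega))
  rcases eq_or_ne p 3 with rfl | hp3
  · have : k = 5 ∨ k = 6 ∨ k = 9 := by omega
    rcases this with rfl | rfl | rfl
    · norm_num [B_vals, M_vals]
    · norm_num [B_vals, M_vals]
    · norm_num [B_vals, M_vals]
  · -- `p ≥ 5`
    have hcases : k = 2 ∨ k = 3 ∨ k = 5 ∨ k = 6 ∨ k = 9 := by omega
    have hp5 : 5 ≤ p := by
      have : p ≠ 4 := by rintro rfl; norm_num at hp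
      omega
    have hq : ∀ q, 2 ≤ q → 12 * q + 8 ≤ 8 ^ q := by
      intro q hq
      induction q, hq using Nat.le_induction with
      | base => norm_num
      | succ q hq ih => rw [pow_succ]; omega
    have hb : 3 * p ≤ 2 * M (p - 1) := by
      have hpow := M_pow_le 4 ((p-1)/4)
      rw [M_vals.2.2.2.2.1] at hpow
      have hm := M_mono (show 4 * ((p-1)/4) ≤ p - 1 by omega)
      by_cases h9 : 9 ≤ p
      · have := hq ((p-1)/4) (by omega)
        omega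
      · have : p = 5 ∨ p = 6 ∨ p = 7 ∨ p = 8 := by omega
        rcases this with rfl | rfl | rfl | rfl <;> first | (norm_num [M_vals]; done) | norm_num at hp
    have hkey : (3 * p) ^ k * (2 * B k) ≤ 2 ^ k * M (p - 1) ^ k * (2 * B k) := by
      rw [← mul_pow]; exact Nat.mul_le_mul_right _ (Nat.pow_le_pow_left hb k)
    have hkk : 2 ^ k * (2 * B k) ≤ 3 ^ k * M k := by
      rcases hcases with rfl | rfl | rfl | rfl | rfl <;> norm_num [B_vals, M_vals]
    have : 3 ^ k * (2 * (p ^ k * B k)) ≤ 3 ^ k * M (p * k) := by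
      calc 3 ^ k * (2 * (p ^ k * B k)) = (3 * p) ^ k * (2 * B k) := by rw [mul_pow]; ring
        _ ≤ 2 ^ k * M (p - 1) ^ k * (2 * B k) := hkey
        _ = M (p - 1) ^ k * (2 ^ k * (2 * B k)) := by ring
        _ ≤ M (p - 1) ^ k * (3 ^ k * M k) := Nat.mul_le_mul_left _ hkk
        _ ≤ 3 ^ k * (M ((p-1)*k) * M k) := by
          rw [show 3 ^ k * (M ((p-1)*k) * M k) = M ((p-1)*k) * (3 ^ k * M k) by ring]
          exact Nat.mul_le_mul_right _ (M_pow_le _ k)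
        _ ≤ 3 ^ k * M (p * k) := by
          apply Nat.mul_le_mul_left
          refine (M_mul_le _ _).trans (le_of_eq ?_)
          congr 1
          conv_rhs => rw [show p = (p - 1) + 1 by omega]
          ring
    exact Nat.le_of_mul_le_mul_left this (by positivity)

end CfsgLib.NilpotentPerm
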