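import Mathlib

/-!
The centraliser of a permutation `x` with `x ^ p = 1`: action on the moved cycles and on the fixed
points, its kernel, and the sign.
-/

namespace CfsgLib.NilpotentPerm

open Equiv

variable {Ω : Type*} (x : Perm Ω) {p : ℕ}

/-- moved points -/
abbrev Mv : Type _ := {a : Ω // x a ≠ a}

/-- fixed points -/
abbrev Fx : Type _ := {a : Ω // x a = a}

/-- cycles setoid on moved points -/
def cycleSetoid : Setoid (Mv x) := Setoid.comap Subtype.val (Perm.SameCycle.setoid x)

/-- moved cycles -/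
abbrev Cyc : Type _ := Quotient (cycleSetoid x)

lemma sameCycle_map {g : Perm Ω} (hg : Commute g x) {a b : Ω} (h : x.SameCycle a b) :
    x.SameCycle (g a) (g b) := by
  obtain ⟨i, rfl⟩ := h
  refine ⟨i, ?_⟩
  rw [← Perm.mul_apply, ← Perm.mul_apply, (hg.symm.zpow_left i).eq]

lemma map_moved {g : Perm Ω} (hg : Commute g x) {a : Ω} : x (g a) = g a ↔ x a = a := by
  rw [← Perm.mul_apply, ← hg.eq, Perm.mul_apply, g.apply_eq_iff_eq]

/-- centraliser -/
abbrev Cx : Subgroup (Perm Ω) := Subgroup.centralizer {x}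

lemma comm_of_mem (g : Cx x) : Commute (g : Perm Ω) x :=
  (Subgroup.mem_centralizer_singleton_iff.mp g.2)

/-- action on moved cycles -/
noncomputable def cycHom : Cx x →* Perm (Cyc x) where
  toFun g :=
    { toFun := Quotient.map (fun a => ⟨(g : Perm Ω) a, fun h => a.2 ((map_moved x (comm_of_mem x g)).mp h)⟩)
        (fun _ _ h => sameCycle_map x (comm_of_mem x g) h)
      invFun := Quotient.map
        (fun a => ⟨(g⁻¹ : Cx x).1 a, fun h => a.2 ((map_moved x (comm_of_mem x g⁻¹)).mp h)⟩)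
        (fun _ _ h => sameCycle_map x (comm_of_mem x g⁻¹) h)
      left_inv := by
        intro q; induction q using Quotient.ind with
        | _ a => exact congrArg (Quotient.mk _) (Subtype.ext (by simp))
      right_inv := by
        intro q; induction q using Quotient.ind with
        | _ a => exact congrArg (Quotient.mk _) (Subtype.ext (by simp)) }
  map_one' := by
    ext q; induction q using Quotient.ind with
    | _ a => exact congrArg (Quotient.mk _) (Subtype.ext (by simp))
  map_mul' g h := by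
    ext q; induction q using Quotient.ind with
    | _ a => exact congrArg (Quotient.mk _) (Subtype.ext (by simp))

lemma cycHom_mk (g : Cx x) (a : Mv x) :
    cycHom x g (Quotient.mk _ a) =
      Quotient.mk _ ⟨(g : Perm Ω) a, fun h => a.2 ((map_moved x (comm_of_mem x g)).mp h)⟩ := rfl

/-- action on fixed points -/
def fixHom : Cx x →* Perm (Fx x) where
  toFun g := (g : Perm Ω).subtypePerm (fun a => map_moved x (comm_of_mem x g))
  map_one' := by ext a; simp
  map_mul' g h := by ext a; rfl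

lemma fixHom_apply (g : Cx x) (a : Fx x) : (fixHom x g a : Ω) = (g : Perm Ω) a := rfl

variable [Finite Ω] (hp : p.Prime) (hxp : x ^ p = 1)

include hp hxp in
lemma minimalPeriod_eq {a : Ω} (ha : x a ≠ a) : Function.minimalPeriod x a = p := by
  have h : Function.IsPeriodicPt x p a := by
    show (⇑x)^[p] a = a
    rw [Perm.iterate_eq_pow, hxp]; rfl
  refine ((Nat.dvd_prime hp).mp h.minimalPeriod_dvd).resolve_left (fun h1 => ha ?_)
  exact Function.minimalPeriod_eq_one_iff_isFixedPt.mp h1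

include hp hxp in
lemma eq_of_pow_apply_eq {a : Ω} (ha : x a ≠ a) {i j : ℕ} (hi : i < p) (hj : j < p)
    (h : (x ^ i) a = (x ^ j) a) : i = j := by
  have := Function.iterate_injOn_Iio_minimalPeriod (f := ⇑x) (x := a)
  rw [minimalPeriod_eq x hp hxp ha] at this
  exact this (Set.mem_Iio.mpr hi) (Set.mem_Iio.mpr hj) (by simpa [Perm.iterate_eq_pow] using h)

include hp hxp in
lemma exists_pow_of_sameCycle {a b : Ω} (h : x.SameCycle a b) : ∃ i < p, (x ^ i) a = b := by
  obtain ⟨i, -, hi⟩ := h.exists_pow_eq'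
  refine ⟨i % p, Nat.mod_lt _ hp.pos, ?_⟩
  rw [← pow_mod_of_pow_eq_one hxp i] 
  exact hi
where
  pow_mod_of_pow_eq_one {M : Type _} [Monoid M] {y : M} {n : ℕ} (h : y ^ n = 1) (i : ℕ) :
      y ^ i = y ^ (i % n) := by
    conv_lhs => rw [← Nat.mod_add_div i n, pow_add, pow_mul, h, one_pow, mul_one]

/-- representative -/
noncomputable def rep (o : Cyc x) : Mv x := o.out

lemma pow_moved (i : ℕ) {a : Ω} (ha : x a ≠ a) : x ((x ^ i) a) ≠ (x ^ i) a := fun h =>
  ha ((map_moved x ((Commute.refl x).pow_left i)).mp h)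

/-- `Cyc × Fin p ≃ Mv` -/
noncomputable def coord : Cyc x × Fin p ≃ Mv x :=
  Equiv.ofBijective (fun oi => ⟨(x ^ (oi.2 : ℕ)) (rep x oi.1).1, pow_moved x _ (rep x oi.1).2⟩) (by
    constructor
    · rintro ⟨o, i⟩ ⟨o', i'⟩ h
      have h' : (x ^ (i : ℕ)) (rep x o).1 = (x ^ (i' : ℕ)) (rep x o').1 := congrArg Subtype.val h
      have ho : o = o' := by
        rw [← Quotient.out_eq o, ← Quotient.out_eq o']
        apply Quotient.sound
        show x.SameCycle _ _
        exact ((Perm.SameCycle.refl x _).pow_right (n := (i : ℕ))).trans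
          (h' ▸ ((Perm.SameCycle.refl x _).pow_right (n := (i' : ℕ))).symm)
      subst ho
      exact Prod.ext rfl (Fin.ext (eq_of_pow_apply_eq x hp hxp (rep x o).2 i.2 i'.2 h'))
    · intro a
      obtain ⟨i, hi, h⟩ := exists_pow_of_sameCycle x hp hxp
        (a := (rep x (Quotient.mk _ a)).1) (b := a.1) (Quotient.mk_out (s := cycleSetoid x) a)
      exact ⟨(Quotient.mk _ a, ⟨i, hi⟩), Subtype.ext h⟩)

lemma coord_apply (o : Cyc x) (i : Fin p) :
    (coord x hp hxp (o, i) : Ω) = (x ^ (i : ℕ)) (rep x o).1 := rfl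

include hp hxp in
lemma card_eq : Nat.card Ω = p * Nat.card (Cyc x) + Nat.card (Fx x) := by
  classical
  rw [← Nat.card_congr (Equiv.sumCompl (fun a => x a = a)), Nat.card_sum,
    ← Nat.card_congr (coord x hp hxp), Nat.card_prod, Nat.card_eq_fintype_card (α := Fin p),
    Fintype.card_fin]
  ring

/-- kernel of the two actions -/
noncomputable def kerBoth : Subgroup (Cx x) := (cycHom x).ker ⊓ (fixHom x).ker

lemma kerBoth_sameCycle {g : Cx x} (hg : g ∈ kerBoth x) {a : Ω} (ha : x a ≠ a) :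
    x.SameCycle ((g : Perm Ω) a) a := by
  have h := Perm.congr_fun (MonoidHom.mem_ker.mp (Subgroup.mem_inf.mp hg).1) (Quotient.mk _ ⟨a, ha⟩)
  rw [cycHom_mk, Perm.one_apply] at h
  exact Quotient.exact h

lemma kerBoth_fix {g : Cx x} (hg : g ∈ kerBoth x) {a : Ω} (ha : x a = a) :
    (g : Perm Ω) a = a := by
  have h := Perm.congr_fun (MonoidHom.mem_ker.mp (Subgroup.mem_inf.mp hg).2) ⟨a, ha⟩
  exact congrArg Subtype.val h

include hp hxp in
lemma ext_of_rep {g h : Cx x} (hfix : ∀ a, x a = a → (g : Perm Ω) a = (h : Perm Ω) a)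
    (hrep : ∀ o, (g : Perm Ω) (rep x o).1 = (h : Perm Ω) (rep x o).1) : g = h := by
  apply Subtype.ext
  ext a
  by_cases ha : x a = a
  · exact hfix a ha
  · obtain ⟨⟨o, i⟩, hoi⟩ := (coord x hp hxp).surjective ⟨a, ha⟩
    have e : (x ^ (i : ℕ)) (rep x o).1 = a := congrArg Subtype.val hoi
    rw [← e, ← Perm.mul_apply, ← Perm.mul_apply, ((comm_of_mem x g).pow_right _).eq,
      ((comm_of_mem x h).pow_right _).eq, Perm.mul_apply, Perm.mul_apply, hrep]

include hp hxp in
lemma card_kerBoth_le (K : Subgroup (Cx x)) (hK : K ≤ kerBoth x) :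
    Nat.card K ≤ p ^ Nat.card (Cyc x) := by
  classical
  haveI := Fintype.ofFinite (Cyc x)
  have hex : ∀ (g : K) (o : Cyc x), ∃ i : Fin p,
      (x ^ (i : ℕ)) (rep x o).1 = (g : Perm Ω) (rep x o).1 := by
    intro g o
    obtain ⟨i, hi, h⟩ := exists_pow_of_sameCycle x hp hxp
      (kerBoth_sameCycle x (hK g.2) (rep x o).2).symm
    exact ⟨⟨i, hi⟩, h⟩
  choose f hf using hex
  have hinj : Function.Injective f := by
    intro g h e
    apply Subtype.ext
    apply ext_of_rep x hp hxp
    · intro a ha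
      rw [kerBoth_fix x (hK g.2) ha, kerBoth_fix x (hK h.2) ha]
    · intro o
      rw [← hf g o, ← hf h o, e]
  have := Nat.card_le_card_of_injective f hinj
  rw [Nat.card_fun, Nat.card_eq_fintype_card (α := Fin p), Fintype.card_fin] at this
  exact this

include hp hxp in
lemma kerBoth_pow {g : Cx x} (hg : g ∈ kerBoth x) : g ^ p = 1 := by
  apply ext_of_rep x hp hxp
  · intro a ha
    simpa using kerBoth_fix x (Subgroup.pow_mem _ hg p) ha
  · intro o
    obtain ⟨i, -, h⟩ := exists_pow_of_sameCycle x hp hxp (kerBoth_sameCycle x hg (rep x o).2).symm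
    have key : ∀ j : ℕ, (((g : Perm Ω)) ^ j) (rep x o).1 = (x ^ (i * j)) (rep x o).1 := by
      intro j
      induction j with
      | zero => simp
      | succ j ih =>
        rw [pow_succ', Perm.mul_apply, ih, ← Perm.mul_apply,
          ((comm_of_mem x g).pow_right _).eq, Perm.mul_apply, ← h, ← Perm.mul_apply, ← pow_add]
        congr 2
    rw [SubgroupClass.coe_pow, key p, mul_comm, pow_mul, hxp, one_pow]
    simp

variable [Fintype Ω] [DecidableEq Ω]

/-- lift of a permutation of the cycles -/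
noncomputable def cycLift : Perm (Cyc x) →* Perm Ω where
  toFun σ := Perm.ofSubtype ((coord x hp hxp).permCongr (Equiv.prodCongrLeft (fun _ => σ)))
  map_one' := by
    rw [show (Equiv.prodCongrLeft (fun _ : Fin p => (1 : Perm (Cyc x)))) = 1 from Equiv.ext fun _ => rfl]
    rw [show (coord x hp hxp).permCongr 1 = 1 from Equiv.ext fun a => (coord x hp hxp).apply_symm_apply a]
    exact map_one _
  map_mul' σ τ := by
    rw [← map_mul]
    congr 1
    ext a
    simp [Equiv.permCongr_apply]
    rfl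

lemma cycLift_fix (σ : Perm (Cyc x)) {a : Ω} (ha : x a = a) : cycLift x hp hxp σ a = a :=
  Perm.ofSubtype_apply_of_not_mem _ (not_not_intro ha)

lemma cycLift_apply (σ : Perm (Cyc x)) (o : Cyc x) {i : ℕ} (hi : i < p) :
    cycLift x hp hxp σ ((x ^ i) (rep x o).1) = (x ^ i) (rep x (σ o)).1 := by
  have h := coord_apply x hp hxp o ⟨i, hi⟩
  simp only at h
  rw [← h]
  show Perm.ofSubtype _ _ = _
  rw [Perm.ofSubtype_apply_coe, Equiv.permCongr_apply, Equiv.symm_apply_apply]
  rfl

lemma cycLift_comm (σ : Perm (Cyc x)) : cycLift x hp hxp σ ∈ Cx x := by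
  rw [Subgroup.mem_centralizer_singleton_iff]
  have hall : ∀ (o : Cyc x) (i : ℕ),
      cycLift x hp hxp σ ((x ^ i) (rep x o).1) = (x ^ i) (rep x (σ o)).1 := by
    intro o i
    rw [exists_pow_of_sameCycle.pow_mod_of_pow_eq_one hxp i]
    exact cycLift_apply x hp hxp σ o (Nat.mod_lt _ hp.pos)
  ext a
  by_cases ha : x a = a
  · rw [Perm.mul_apply, Perm.mul_apply, ha, cycLift_fix x hp hxp σ ha, ha]
  · obtain ⟨⟨o, i⟩, hoi⟩ := (coord x hp hxp).surjective ⟨a, ha⟩
    have e : (x ^ (i : ℕ)) (rep x o).1 = a := congrArg Subtype.val hoi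
    rw [← e, Perm.mul_apply, Perm.mul_apply, hall, ← Perm.mul_apply x, ← pow_succ', hall,
      ← Perm.mul_apply x, ← pow_succ']

lemma cycHom_cycLift (σ : Perm (Cyc x)) :
    cycHom x ⟨cycLift x hp hxp σ, cycLift_comm x hp hxp σ⟩ = σ := by
  ext o
  conv_lhs => rw [← Quotient.out_eq o, cycHom_mk]
  conv_rhs => rw [← Quotient.out_eq (σ o)]
  congr 1
  apply Subtype.ext
  simpa [rep] using cycLift_apply x hp hxp σ o hp.pos

lemma fixHom_cycLift (σ : Perm (Cyc x)) :
    fixHom x ⟨cycLift x hp hxp σ, cycLift_comm x hp hxp σ⟩ = 1 := by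
  ext a
  rw [fixHom_apply]
  exact cycLift_fix x hp hxp σ a.2

variable [Fintype (Cyc x)] [DecidableEq (Cyc x)]

lemma sign_cycLift (hodd : Odd p) (σ : Perm (Cyc x)) :
    Perm.sign (cycLift x hp hxp σ) = Perm.sign σ := by
  show Perm.sign (Perm.ofSubtype _) = _
  rw [Perm.sign_ofSubtype, Perm.sign_permCongr, Perm.sign_prodCongrLeft, Finset.prod_const,
    Finset.card_univ, Fintype.card_fin]
  obtain ⟨m, rfl⟩ := hodd
  rcases Int.units_eq_one_or (Perm.sign σ) with h | h <;> rw [h] <;> simp [pow_add, pow_mul]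

include hp hxp in
lemma sign_eq (hodd : Odd p) (g : Cx x) :
    Perm.sign (g : Perm Ω) = Perm.sign (cycHom x g) * Perm.sign (fixHom x g) := by
  set A : Cx x := ⟨cycLift x hp hxp (cycHom x g), cycLift_comm x hp hxp _⟩
  have hτc : Perm.ofSubtype (fixHom x g) ∈ Cx x := by
    rw [Subgroup.mem_centralizer_singleton_iff]
    ext a
    by_cases ha : x a = a
    · rw [Perm.mul_apply, Perm.mul_apply, ha, Perm.ofSubtype_apply_of_mem (fixHom x g) ha]
      exact ((fixHom x g ⟨a, ha⟩).2).symm
    · rw [Perm.mul_apply, Perm.mul_apply, Perm.ofSubtype_apply_of_not_mem (fixHom x g) ha,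
        Perm.ofSubtype_apply_of_not_mem (fixHom x g) (fun h => ha (x.injective h))]
  set T : Cx x := ⟨Perm.ofSubtype (fixHom x g), hτc⟩
  have hTc : cycHom x T = 1 := by
    ext q; induction q using Quotient.ind with
    | _ a =>
      rw [cycHom_mk, Perm.one_apply]
      congr 1
      exact Subtype.ext (Perm.ofSubtype_apply_of_not_mem (fixHom x g) a.2)
  have hTf : fixHom x T = fixHom x g := by
    ext a
    rw [fixHom_apply]
    exact Perm.ofSubtype_apply_coe _ a
  have hB : (A * T)⁻¹ * g ∈ kerBoth x := by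
    rw [kerBoth, Subgroup.mem_inf, MonoidHom.mem_ker, MonoidHom.mem_ker]
    constructor
    · rw [map_mul, map_inv, map_mul, cycHom_cycLift x hp hxp, hTc, mul_one, inv_mul_cancel]
    · rw [map_mul, map_inv, map_mul, fixHom_cycLift x hp hxp, hTf, one_mul, inv_mul_cancel]
  have hs : Perm.sign (((A * T)⁻¹ * g : Cx x) : Perm Ω) = 1 := by
    have h := congrArg (fun u : Cx x => Perm.sign (u : Perm Ω)) (kerBoth_pow x hp hxp hB)
    simp only [SubgroupClass.coe_pow, map_pow, OneMemClass.coe_one, map_one] at h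
    obtain ⟨m, rfl⟩ := hodd
    rcases Int.units_eq_one_or (Perm.sign (((A * T)⁻¹ * g : Cx x) : Perm Ω)) with e | e
    · exact e
    · rw [e] at h; simp [pow_add, pow_mul] at h
  simp only [Subgroup.coe_mul, Subgroup.coe_inv, map_mul, map_inv] at hs
  rw [inv_mul_eq_one] at hs
  rw [← hs]
  show Perm.sign (cycLift x hp hxp (cycHom x g)) * Perm.sign (Perm.ofSubtype (fixHom x g)) = _
  rw [sign_cycLift x hp hxp hodd, Perm.sign_ofSubtype]

end CfsgLib.NilpotentPerm
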