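import Cfsg.Agent.NilpotentPerm.Arith
import Cfsg.Agent.NilpotentPerm.Cycles

/-! Order bounds for nilpotent subgroups of symmetric and alternating groups. -/

namespace CfsgLib.NilpotentPerm

open Equiv

lemma card_eq_map_mul_inf_ker {A B : Type*} [Group A] [Group B] (f : A →* B) (H : Subgroup A) :
    Nat.card H = Nat.card (H.map f) * Nat.card (H ⊓ f.ker : Subgroup A) := by
  have h := Subgroup.card_eq_card_quotient_mul_card_subgroup (f.comp H.subtype).ker
  rw [Nat.card_congr (QuotientGroup.quotientKerEquivRange (f.comp H.subtype)).toEquiv] at h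
  have h1 : (f.comp H.subtype).range = H.map f := by
    rw [MonoidHom.range_comp, Subgroup.range_subtype]
  have h2 : Nat.card (f.comp H.subtype).ker = Nat.card (H ⊓ f.ker : Subgroup A) :=
    Nat.card_congr
      { toFun := fun u => ⟨u.1.1, u.1.2, u.2⟩
        invFun := fun u => ⟨⟨u.1, u.2.1⟩, u.2.2⟩
        left_inv := fun u => rfl
        right_inv := fun u => rfl }
  rw [h, h1, h2]

lemma commute_of_coprime {G : Type*} [Group G] [Finite G] (hG : Group.IsNilpotent G) (a b : G)
    {p : ℕ} [Fact p.Prime] {q : ℕ} [Fact q.Prime] (hpq : p ≠ q) {i j : ℕ} (ha : a ^ p ^ i = 1)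
    (hb : b ^ q ^ j = 1) : Commute a b := by
  have hp' : ∀ (r : ℕ) [Fact r.Prime] (c : G) (k : ℕ), c ^ r ^ k = 1 →
      ∀ P : Sylow r G, c ∈ (P : Subgroup G) := by
    intro r _ c k hc P
    obtain ⟨l, -, hl⟩ := (Nat.dvd_prime_pow Fact.out).mp (orderOf_dvd_of_pow_eq_one hc)
    have hz : IsPGroup r (Subgroup.zpowers c) := by
      intro u
      refine ⟨k, ?_⟩
      obtain ⟨z, hz⟩ := Subgroup.mem_zpowers_iff.mp u.2
      apply Subtype.ext
      rw [SubgroupClass.coe_pow, ← hz, ← zpow_natCast, ← zpow_mul, mul_comm, zpow_mul, zpow_natCast,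
        hc, one_zpow, OneMemClass.coe_one]
    have hn : (P : Subgroup G).Normal :=
      Sylow.normal_of_normalizerCondition Group.normalizerCondition_of_isNilpotent P
    letI := Sylow.unique_of_normal P hn
    obtain ⟨Q, hQ⟩ := hz.exists_le_sylow
    rw [Subsingleton.elim P Q]
    exact hQ (Subgroup.mem_zpowers c)
  obtain ⟨P⟩ : Nonempty (Sylow p G) := inferInstance
  obtain ⟨Q⟩ : Nonempty (Sylow q G) := inferInstance
  exact Subgroup.commute_of_normal_of_disjoint _ _
    (Sylow.normal_of_normalizerCondition Group.normalizerCondition_of_isNilpotent P)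
    (Sylow.normal_of_normalizerCondition Group.normalizerCondition_of_isNilpotent Q)
    (IsPGroup.disjoint_of_ne p q hpq _ _ P.isPGroup' Q.isPGroup') a b (hp' p a i ha P) (hp' q b j hb Q)

/-- A nilpotent group has central elements of every prime order dividing its order. -/
lemma exists_central {G : Type*} [Group G] [Finite G] (hG : Group.IsNilpotent G) {p : ℕ}
    [hp : Fact p.Prime] (hd : p ∣ Nat.card G) :
    ∃ z ∈ Subgroup.center G, orderOf z = p := by
  obtain ⟨P⟩ : Nonempty (Sylow p G) := inferInstance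
  haveI : Nontrivial (P : Subgroup G) := by
    rw [← Finite.one_lt_card_iff_nontrivial]
    exact lt_of_lt_of_le hp.out.one_lt (Nat.le_of_dvd Nat.card_pos (Sylow.dvd_card_of_dvd_card P hd))
  haveI := P.isPGroup'.center_nontrivial
  have hd' : p ∣ Nat.card (Subgroup.center (P : Subgroup G)) := by
    obtain ⟨k, hk, h⟩ := (P.isPGroup'.to_subgroup (Subgroup.center (P : Subgroup G))).nontrivial_iff_card.mp inferInstance
    rw [h]; exact dvd_pow_self p (by omega)
  obtain ⟨w, hw⟩ := exists_prime_orderOf_dvd_card' p hd'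
  refine ⟨w.1.1, ?_, by simp only [Subgroup.orderOf_coe]; exact hw⟩
  have hle : ∀ g : G, g ∈ Subgroup.centralizer ({w.1.1} : Set G) := by
    have htop : Subgroup.centralizer ({w.1.1} : Set G) = ⊤ := by
      apply Subgroup.eq_top_of_card_eq
      apply Nat.dvd_antisymm (Subgroup.card_subgroup_dvd_card _)
      rw [← Nat.factorization_le_iff_dvd Nat.card_pos.ne' Nat.card_pos.ne']
      intro q
      by_cases hq : q.Prime
      swap
      · simp [Nat.factorization_eq_zero_of_not_prime _ hq]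
      · haveI : Fact q.Prime := ⟨hq⟩
        rw [← hq.pow_dvd_iff_le_factorization Nat.card_pos.ne']
        obtain ⟨Q⟩ : Nonempty (Sylow q G) := inferInstance
        rw [← Q.card_eq_multiplicity]
        apply Subgroup.card_dvd_of_le
        intro g hg
        rw [Subgroup.mem_centralizer_singleton_iff]
        rcases eq_or_ne q p with rfl | hqp
        · letI := Sylow.unique_of_normal P
            (Sylow.normal_of_normalizerCondition Group.normalizerCondition_of_isNilpotent P)
          have hg' : g ∈ (P : Subgroup G) := by rwa [Subsingleton.elim P Q]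
          exact congrArg Subtype.val (Subgroup.mem_center_iff.mp w.2 ⟨g, hg'⟩)
        · obtain ⟨j, hj⟩ := Q.isPGroup' ⟨g, hg⟩
          exact commute_of_coprime hG g w.1.1 hqp (congrArg Subtype.val hj)
            (i := j) (j := 1) (by
              have h := congrArg (fun u : Subgroup.center (P : Subgroup G) => (u.1.1 : G))
                (orderOf_dvd_iff_pow_eq_one.mp (dvd_of_eq hw))
              simpa using h)
    intro g; rw [htop]; trivial
  rw [Subgroup.mem_center_iff]
  exact fun g => Subgroup.mem_centralizer_singleton_iff.mp (hle g)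

variable {Ω : Type} [Fintype Ω] [DecidableEq Ω]

lemma card_two_group_le (R : Subgroup (Perm Ω)) (hR : IsPGroup 2 R) :
    Nat.card R ≤ 2 ^ e (Nat.card Ω) := by
  obtain ⟨P, hP⟩ := hR.exists_le_sylow
  refine (Subgroup.card_le_of_le hP).trans (le_of_eq ?_)
  rw [P.card_eq_multiplicity, Nat.card_perm, Nat.factorization_def _ Nat.prime_two]
  rfl

lemma exists_odd_mem (P : Sylow 2 (Perm Ω)) (h2 : 2 ≤ Nat.card Ω) :
    ∃ t ∈ (P : Subgroup (Perm Ω)), Perm.sign t = -1 := by
  haveI : Nontrivial Ω := by rw [← Finite.one_lt_card_iff_nontrivial]; omega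
  obtain ⟨a, b, hab⟩ := exists_pair_ne Ω
  have hz : IsPGroup 2 (Subgroup.zpowers (Equiv.swap a b)) := by
    intro u
    refine ⟨1, Subtype.ext ?_⟩
    obtain ⟨z, hz⟩ := Subgroup.mem_zpowers_iff.mp u.2
    rw [SubgroupClass.coe_pow, ← hz, pow_one, ← zpow_natCast, ← zpow_mul, mul_comm, zpow_mul,
      zpow_natCast, sq, Equiv.swap_mul_self, one_zpow, OneMemClass.coe_one]
  obtain ⟨Q, hQ⟩ := hz.exists_le_sylow
  obtain ⟨g, hg⟩ := MulAction.exists_smul_eq (Perm Ω) Q P
  refine ⟨g * Equiv.swap a b * g⁻¹, ?_, ?_⟩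
  · rw [← hg, Sylow.coe_subgroup_smul]
    exact ⟨_, hQ (Subgroup.mem_zpowers _), rfl⟩
  · rw [map_mul, map_mul, map_inv, mul_inv_cancel_comm, Perm.sign_swap hab]

lemma two_mul_card_le (R : Subgroup (Perm Ω)) (hR : IsPGroup 2 R) (heven : ∀ g ∈ R, Perm.sign g = 1)
    (h2 : 2 ≤ Nat.card Ω) : 2 * Nat.card R ≤ 2 ^ e (Nat.card Ω) := by
  obtain ⟨P, hP⟩ := hR.exists_le_sylow
  refine le_trans ?_ (card_two_group_le (P : Subgroup (Perm Ω)) P.isPGroup')
  rw [card_eq_map_mul_inf_ker Perm.sign (P : Subgroup (Perm Ω))]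
  refine Nat.mul_le_mul ?_ (Subgroup.card_le_of_le (le_inf hP (fun g hg => heven g hg)))
  obtain ⟨t, ht, hts⟩ := exists_odd_mem P h2
  refine Nat.succ_le_of_lt ?_
  rw [Finite.one_lt_card_iff_nontrivial]
  exact ⟨1, ⟨-1, t, ht, hts⟩, fun h => absurd (congrArg Subtype.val h) (by simp)⟩

/-- Replace a central element of order `p` by one whose cycles are permuted transitively. -/
lemma exists_transitive (N : Subgroup (Perm Ω)) (z : Perm Ω) {p : ℕ} (hz1 : z ≠ 1)
    (hzp : z ^ p = 1) (hN : N ≤ Cx z) :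
    ∃ x : Perm Ω, x ^ p = 1 ∧ x ≠ 1 ∧ N ≤ Cx x ∧
      ∀ b c, x b ≠ b → x c ≠ c → ∃ g ∈ N, x.SameCycle (g b) c := by
  classical
  obtain ⟨a, ha⟩ : ∃ a, z a ≠ a := by
    by_contra h; push Not at h; exact hz1 (Equiv.ext h)
  let S : Ω → Prop := fun b => ∃ g ∈ N, z.SameCycle (g a) b
  have hcom : ∀ g ∈ N, Commute g z := fun g hg =>
    (Subgroup.mem_centralizer_singleton_iff.mp (hN hg))
  have hzS : ∀ b, S (z b) ↔ S b := fun b =>
    ⟨fun ⟨g, hg, h⟩ => ⟨g, hg, Perm.sameCycle_apply_right.mp h⟩,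
      fun ⟨g, hg, h⟩ => ⟨g, hg, Perm.sameCycle_apply_right.mpr h⟩⟩
  have hgS : ∀ g ∈ N, ∀ b, S b → S (g b) := fun g hg b ⟨h, hh, hs⟩ =>
    ⟨g * h, N.mul_mem hg hh, sameCycle_map z (hcom g hg) hs⟩
  have hmv : ∀ b, S b → z b ≠ b := by
    rintro b ⟨g, hg, i, hi⟩ hb
    have : (z ^ i) b = b := Perm.zpow_apply_eq_self_of_apply_eq_self hb i
    have hga : g a = b := (z ^ i).injective (hi.trans this.symm)
    rw [← hga] at hb
    exact ha ((map_moved z (hcom g hg)).mp hb)
  set x : Perm Ω := Perm.ofSubtype (z.subtypePerm hzS)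
  have hx_in : ∀ b, S b → x b = z b := fun b hb => Perm.ofSubtype_apply_coe (z.subtypePerm hzS) ⟨b, hb⟩
  have hx_out : ∀ b, ¬ S b → x b = b := fun b hb => Perm.ofSubtype_apply_of_not_mem _ hb
  have hmv' : ∀ b, x b ≠ b ↔ S b := fun b =>
    ⟨fun h => by_contra fun hb => h (hx_out b hb), fun hb => by rw [hx_in b hb]; exact hmv b hb⟩
  have hpow : ∀ (i : ℕ) b, S b → (x ^ i) b = (z ^ i) b ∧ S ((z ^ i) b) := by
    intro i b hb
    induction i with
    | zero => exact ⟨rfl, hb⟩
    | succ i ih =>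
      rw [pow_succ', pow_succ', Perm.mul_apply, Perm.mul_apply, ih.1, hx_in _ ih.2]
      exact ⟨rfl, (hzS _).mpr ih.2⟩
  refine ⟨x, ?_, ?_, ?_, ?_⟩
  · ext b
    by_cases hb : S b
    · rw [(hpow p b hb).1, hzp]
    · exact Perm.pow_apply_eq_self_of_apply_eq_self (hx_out b hb) p
  · intro h
    exact (hmv' a).mpr ⟨1, N.one_mem, Perm.SameCycle.refl _ _⟩ (by rw [h]; rfl)
  · intro g hg
    rw [Subgroup.mem_centralizer_singleton_iff]
    ext b
    rw [Perm.mul_apply, Perm.mul_apply]
    by_cases hb : S b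
    · rw [hx_in b hb, hx_in _ (hgS g hg b hb), ← Perm.mul_apply, (hcom g hg).eq, Perm.mul_apply]
    · rw [hx_out b hb, hx_out (g b) (fun h => hb ?_)]
      simpa using hgS g⁻¹ (N.inv_mem hg) _ h
  · intro b c hb hc
    obtain ⟨g1, hg1, h1⟩ := (hmv' b).mp hb
    obtain ⟨g2, hg2, h2⟩ := (hmv' c).mp hc
    have hg : g2 * g1⁻¹ ∈ N := N.mul_mem hg2 (N.inv_mem hg1)
    refine ⟨g2 * g1⁻¹, hg, ?_⟩
    have h3 : z.SameCycle ((g2 * g1⁻¹ : Perm Ω) b) c := by
      have := (sameCycle_map z (hcom _ hg) h1).symm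
      have e : (g2 * g1⁻¹ : Perm Ω) (g1 a) = g2 a := by simp
      rw [e] at this
      exact this.trans h2
    obtain ⟨i, -, hi⟩ := h3.exists_pow_eq'
    refine ⟨(i : ℤ), ?_⟩
    rw [zpow_natCast, (hpow i _ (hgS _ hg b ((hmv' b).mp hb))).1, hi]

section
variable (x : Perm Ω) {p : ℕ} [hpf : Fact p.Prime] (hxp : x ^ p = 1) (N : Subgroup (Cx x))

/-- fixed-point-trivial part -/
noncomputable abbrev Nfix : Subgroup (Cx x) := N ⊓ (fixHom x).ker

lemma card_factor : Nat.card N =
    Nat.card (N.map (fixHom x)) * (Nat.card ((Nfix x N).map (cycHom x)) *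
      Nat.card (N ⊓ kerBoth x : Subgroup (Cx x))) := by
  rw [card_eq_map_mul_inf_ker (fixHom x) N, card_eq_map_mul_inf_ker (cycHom x) (Nfix x N)]
  congr 3
  rw [Nfix, kerBoth, inf_assoc, inf_comm (fixHom x).ker]

variable (htrans : ∀ b c, x b ≠ b → x c ≠ c → ∃ g ∈ N, x.SameCycle ((g : Perm Ω) b) c)

include htrans in
lemma cyc_trans (o o' : Cyc x) : ∃ g ∈ N, cycHom x g o = o' := by
  obtain ⟨g, hg, h⟩ := htrans _ _ (rep x o).2 (rep x o').2
  refine ⟨g, hg, ?_⟩
  conv_lhs => rw [← Quotient.out_eq o, cycHom_mk]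
  conv_rhs => rw [← Quotient.out_eq o']
  exact Quotient.sound h

include hxp htrans in
lemma card_ker_le_of_two (hN : Group.IsNilpotent N) (hodd : p ≠ 2) (h2 : Nat.card (Cyc x) = 2) :
    Nat.card (N ⊓ kerBoth x : Subgroup (Cx x)) ≤ p := by
  classical
  have hp := hpf.out
  obtain ⟨o1, o2, hne⟩ : ∃ o1 o2 : Cyc x, o1 ≠ o2 := by
    haveI : Nontrivial (Cyc x) := by rw [← Finite.one_lt_card_iff_nontrivial]; omega
    exact exists_pair_ne _
  have honly : ∀ o, o = o1 ∨ o = o2 := by
    intro o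
    by_cases h : o = o1
    · exact Or.inl h
    · exact Or.inr (((Nat.card_eq_two_iff' o1).mp h2).unique h hne.symm)
  obtain ⟨g, hg, hgo⟩ := cyc_trans x N htrans o1 o2
  obtain ⟨a, m, hm, hgm⟩ := Nat.exists_eq_two_pow_mul_odd (orderOf_pos g).ne'
  have hsq : (cycHom x g) ^ 2 = 1 := by
    have := pow_card_eq_one' (G := Perm (Cyc x)) (x := cycHom x g)
    rwa [Nat.card_perm, h2] at this
  have hy : cycHom x (g ^ m) o1 = o2 := by
    obtain ⟨r, hr⟩ := hm
    rw [map_pow, hr, pow_succ, pow_mul, hsq, one_pow, one_mul, hgo]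
  have hy2 : (g ^ m) ^ 2 ^ a = 1 := by
    rw [← pow_mul, mul_comm, ← hgm, pow_orderOf_eq_one]
  have hcomm : ∀ c ∈ N ⊓ kerBoth x, Commute (g ^ m) c := by
    intro c hc
    have h := commute_of_coprime hN ⟨g ^ m, N.pow_mem hg m⟩ ⟨c, hc.1⟩ (p := 2) (q := p) hodd.symm
      (i := a) (j := 1) (Subtype.ext (by simpa using hy2))
      (Subtype.ext (by simpa using kerBoth_pow x hp hxp hc.2))
    exact congrArg Subtype.val h.eq
  obtain ⟨j, -, hj⟩ := exists_pow_of_sameCycle x hp hxp
    (a := (rep x o2).1) (b := (((g ^ m : Cx x)) : Perm Ω) (rep x o1).1) (by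
      have h := hy
      rw [← Quotient.out_eq o1, cycHom_mk] at h
      have h' : Quotient.mk (cycleSetoid x) _ = Quotient.mk (cycleSetoid x) o2.out := h.trans (Quotient.out_eq o2).symm
      exact (Quotient.exact h').symm)
  have hex : ∀ c : (N ⊓ kerBoth x : Subgroup (Cx x)), ∃ i : Fin p,
      (x ^ (i : ℕ)) (rep x o1).1 = (c : Perm Ω) (rep x o1).1 := by
    intro c
    obtain ⟨i, hi, h⟩ := exists_pow_of_sameCycle x hp hxp
      (kerBoth_sameCycle x c.2.2 (rep x o1).2).symm
    exact ⟨⟨i, hi⟩, h⟩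
  choose f hf using hex
  refine le_trans (Nat.card_le_card_of_injective f ?_) (by simp)
  intro c d hcd
  apply Subtype.ext
  apply ext_of_rep x hp hxp
  · intro b hb; rw [kerBoth_fix x c.2.2 hb, kerBoth_fix x d.2.2 hb]
  · have h1 : (c : Perm Ω) (rep x o1).1 = (d : Perm Ω) (rep x o1).1 := by rw [← hf c, ← hf d, hcd]
    intro o
    rcases honly o with rfl | rfl
    · exact h1
    · have key : ∀ u : Cx x, Commute (g ^ m) u → (x ^ j) ((u : Perm Ω) (rep x o).1) =
          ((g ^ m : Cx x) : Perm Ω) ((u : Perm Ω) (rep x o1).1) := by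
        intro u hu
        have hu' : ((g ^ m : Cx x) : Perm Ω) * u = (u : Perm Ω) * ((g ^ m : Cx x) : Perm Ω) :=
          congrArg Subtype.val hu.eq
        rw [← Perm.mul_apply _ (u : Perm Ω) (rep x o1).1, hu', Perm.mul_apply, ← hj,
          ← Perm.mul_apply, ← Perm.mul_apply, ((comm_of_mem x u).pow_right j).eq]
      apply (x ^ j).injective
      rw [key _ (hcomm _ c.2), key _ (hcomm _ d.2), h1]

end

lemma isNilpotent_map {A B : Type*} [Group A] [Group B] (f : A →* B) (H : Subgroup A)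
    (hH : Group.IsNilpotent H) : Group.IsNilpotent (H.map f) :=
  haveI := hH
  Group.nilpotent_of_surjective (f.subgroupMap H) (f.subgroupMap_surjective H)

lemma isNilpotent_of_le {A : Type*} [Group A] {H K : Subgroup A} (h : H ≤ K)
    (hK : Group.IsNilpotent K) : Group.IsNilpotent H :=
  haveI := hK
  Group.nilpotent_of_mulEquiv (Subgroup.subgroupOfEquivOfLe h)

/-- Set-up of the induction: a group which is not a 2-group centralises a suitable `x`. -/
lemma exists_setup (N : Subgroup (Perm Ω)) (hN : Group.IsNilpotent N) (h : ¬ IsPGroup 2 N) :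
    ∃ (p : ℕ) (x : Perm Ω), p.Prime ∧ p ≠ 2 ∧ x ^ p = 1 ∧ 1 ≤ Nat.card (Cyc x) ∧
      Nat.card Ω = p * Nat.card (Cyc x) + Nat.card (Fx x) ∧
      ∃ N' : Subgroup (Cx x), N'.map (Cx x).subtype = N ∧ Group.IsNilpotent N' ∧ Nat.card N' = Nat.card N ∧
        ∀ b c, x b ≠ b → x c ≠ c → ∃ g ∈ N', x.SameCycle ((g : Perm Ω) b) c := by
  classical
  obtain ⟨p, hp, hp2, hd⟩ : ∃ p, p.Prime ∧ p ≠ 2 ∧ p ∣ Nat.card N := by
    by_contra hc
    push Not at hc
    apply h
    apply IsPGroup.of_card (n := (Nat.card N).primeFactorsList.length)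
    apply Nat.eq_prime_pow_of_unique_prime_dvd Nat.card_pos.ne'
    intro q hq hqd
    by_contra hne
    exact hc q hq hne hqd
  haveI := Fact.mk hp
  obtain ⟨z, hz, hzo⟩ := exists_central hN hd
  have hz1 : (z : Perm Ω) ≠ 1 := by
    intro h1
    have : z = 1 := Subtype.ext h1
    rw [this, orderOf_one] at hzo
    exact hp.ne_one hzo.symm
  have hzp : (z : Perm Ω) ^ p = 1 := by
    rw [← SubgroupClass.coe_pow, ← hzo, pow_orderOf_eq_one]; rfl
  have hle : N ≤ Cx (z : Perm Ω) := by
    intro g hg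
    rw [Subgroup.mem_centralizer_singleton_iff]
    exact congrArg Subtype.val (Subgroup.mem_center_iff.mp hz ⟨g, hg⟩)
  obtain ⟨x, hxp, hx1, hNx, htr⟩ := exists_transitive N z hz1 hzp hle
  refine ⟨p, x, hp, hp2, hxp, ?_, card_eq x hp hxp, N.subgroupOf (Cx x), ?_, ?_, ?_, ?_⟩
  · obtain ⟨a, ha⟩ : ∃ a, x a ≠ a := by
      by_contra hc; push Not at hc; exact hx1 (Equiv.ext hc)
    haveI : Nonempty (Cyc x) := ⟨Quotient.mk _ ⟨a, ha⟩⟩
    exact Nat.card_pos
  · rw [Subgroup.subgroupOf_map_subtype, inf_eq_left.mpr hNx]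
  · haveI := hN
    exact Group.nilpotent_of_mulEquiv (Subgroup.subgroupOfEquivOfLe hNx).symm
  · exact Nat.card_congr (Subgroup.subgroupOfEquivOfLe hNx).toEquiv
  · intro b c hb hc
    obtain ⟨g, hg, hs⟩ := htr b c hb hc
    exact ⟨⟨g, hNx hg⟩, hg, hs⟩

/-- nilpotent subgroups of `S_n` have order at most `M n` -/
theorem card_le : ∀ (n : ℕ) (Ω : Type) [Fintype Ω] [DecidableEq Ω], Nat.card Ω = n →
    ∀ N : Subgroup (Perm Ω), Group.IsNilpotent N → Nat.card N ≤ M n := by
  intro n
  induction n using Nat.strong_induction_on with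
  | _ n ih =>
  intro Ω _ _ hn N hN
  by_cases h2 : IsPGroup 2 N
  · exact ((card_two_group_le N h2).trans (two_pow_e_le _)).trans (le_of_eq (by rw [hn]))
  classical
  obtain ⟨p, x, hp, hp2, hxp, hk, hcard, N', -, hN', hc, htr⟩ := exists_setup N hN h2
  haveI := Fact.mk hp
  haveI := Fintype.ofFinite (Cyc x)
  set k := Nat.card (Cyc x)
  set r := Nat.card (Fx x)
  have hp3 : 3 ≤ p := by have := hp.two_le; omega
  have hpk : 3 * k ≤ p * k := Nat.mul_le_mul_right _ hp3
  have h1 : Nat.card (N'.map (fixHom x)) ≤ M r :=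
    ih r (by omega) (Fx x) rfl _ (isNilpotent_map _ _ hN')
  have h3 : Nat.card ((Nfix x N').map (cycHom x)) ≤ M k :=
    ih k (by omega) (Cyc x) rfl _ (isNilpotent_map _ _ (isNilpotent_of_le inf_le_left hN'))
  rw [← hc, card_factor x N', ← hn, hcard]
  by_cases hsp : p = 3 ∧ k = 2
  · obtain ⟨hp', hk'⟩ := hsp
    have h4 := card_ker_le_of_two x hxp N' htr hN' hp2 hk'
    calc _ ≤ M r * (M k * p) := Nat.mul_le_mul h1 (Nat.mul_le_mul h3 h4)
      _ ≤ M r * M 6 := by
          rw [hk', hp']; exact Nat.mul_le_mul_left _ (by simp [M_vals])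
      _ ≤ M (r + 6) := M_mul_le _ _
      _ = _ := by rw [hk', hp', add_comm]
  · calc _ ≤ M r * (M k * p ^ k) :=
          Nat.mul_le_mul h1 (Nat.mul_le_mul h3 (card_kerBoth_le x hp hxp _ inf_le_right))
      _ ≤ M r * M (p * k) := by
          rw [mul_comm (M k)]
          exact Nat.mul_le_mul_left _ (pow_mul_M_le hp hp2 (by omega))
      _ ≤ M (r + p * k) := M_mul_le _ _
      _ = _ := by rw [add_comm]

/-- nilpotent subgroups of `A_n` have order at most `B n` -/
theorem card_le_even : ∀ (n : ℕ) (Ω : Type) [Fintype Ω] [DecidableEq Ω], Nat.card Ω = n →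
    ∀ N : Subgroup (Perm Ω), Group.IsNilpotent N → (∀ g ∈ N, Perm.sign g = 1) →
      Nat.card N ≤ B n := by
  intro n
  induction n using Nat.strong_induction_on with
  | _ n ih =>
  intro Ω _ _ hn N hN heven
  by_cases h2 : IsPGroup 2 N
  · rcases lt_or_ge n 2 with hlt | hge
    · refine (card_two_group_le N h2).trans ?_
      rw [hn]
      interval_cases n <;> simp [e_zero, e_one, B_vals]
    · have := two_mul_card_le N h2 heven (by omega)
      rw [hn] at this
      refine le_trans ?_ (two_pow_e_div_le n)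
      omega
  classical
  obtain ⟨p, x, hp, hp2, hxp, hk, hcard, N', hmap, hN', hc, htr⟩ := exists_setup N hN h2
  haveI := Fact.mk hp
  haveI := Fintype.ofFinite (Cyc x)
  set k := Nat.card (Cyc x) with hkdef
  set r := Nat.card (Fx x) with hrdef
  have hp3 : 3 ≤ p := by have := hp.two_le; omega
  have hpk : 3 * k ≤ p * k := Nat.mul_le_mul_right _ hp3
  have hsign : ∀ g ∈ N', Perm.sign (cycHom x g) * Perm.sign (fixHom x g) = 1 := by
    intro g hg
    rw [← sign_eq x hp hxp (hp.odd_of_ne_two hp2) g]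
    exact heven _ (hmap ▸ ⟨g, hg, rfl⟩)
  have hcyc : Nat.card ((Nfix x N').map (cycHom x)) ≤ B k := by
    refine ih k (by omega) (Cyc x) rfl _ (isNilpotent_map _ _ (isNilpotent_of_le inf_le_left hN')) ?_
    rintro _ ⟨g, hg, rfl⟩
    have := hsign g hg.1
    rw [MonoidHom.mem_ker.mp hg.2, map_one, mul_one] at this
    exact this
  have hfix : Nat.card (N'.map (fixHom x)) ≤ M r :=
    card_le r (Fx x) rfl _ (isNilpotent_map _ _ hN')
  have hker := card_kerBoth_le x hp hxp (N' ⊓ kerBoth x) inf_le_right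
  have hfixB : (∀ g ∈ N', Perm.sign (cycHom x g) = 1) → Nat.card (N'.map (fixHom x)) ≤ B r := by
    intro hall
    refine ih r (by omega) (Fx x) rfl _ (isNilpotent_map _ _ hN') ?_
    rintro _ ⟨g, hg, rfl⟩
    have := hsign g hg
    rwa [hall g hg, one_mul] at this
  rw [← hc, card_factor x N', ← hn, hcard]
  by_cases hk1 : k = 1
  · have hall : ∀ g ∈ N', Perm.sign (cycHom x g) = 1 := by
      intro g _
      haveI : Subsingleton (Cyc x) := (Nat.card_eq_one_iff_unique.mp hk1).1
      rw [Subsingleton.elim (cycHom x g) 1, map_one]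
    calc _ ≤ B r * (B k * p ^ k) := Nat.mul_le_mul (hfixB hall) (Nat.mul_le_mul hcyc hker)
      _ ≤ B r * B p := by
          rw [hk1, pow_one]
          exact Nat.mul_le_mul_left _ (by simpa [B_vals] using prime_le_B hp hp2)
      _ ≤ B (r + p) := B_mul_le _ _
      _ = _ := by rw [hk1, mul_one, add_comm]
  by_cases hsp : p = 3 ∧ k = 2
  · obtain ⟨hp', hk'⟩ := hsp
    have h4 := card_ker_le_of_two x hxp N' htr hN' hp2 hk'
    calc _ ≤ M r * (B k * p) := Nat.mul_le_mul hfix (Nat.mul_le_mul hcyc h4)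
      _ = M r * 3 := by rw [hk', hp', B_vals.2.2.1, one_mul]
      _ ≤ B (6 + r) := by
          rcases le_or_gt r 3 with hr | hr
          · interval_cases r <;> simp [M_vals, B_vals]
          · have h6 := M_mul_le 6 r
            rw [M_vals.2.2.2.2.2.2.1] at h6
            have := two_mul_B (n := 6 + r) (by omega) (by omega) (by omega) (by omega)
            omega
      _ = _ := by rw [hk', hp']
  by_cases hsp3 : p = 3 ∧ k = 3
  · obtain ⟨hp', hk'⟩ := hsp3
    haveI : Nonempty (Cyc x) := (Nat.card_pos_iff.mp (show 0 < k by omega)).1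
    obtain ⟨o⟩ := ‹Nonempty (Cyc x)›
    have hle3 : Nat.card (N'.map (cycHom x)) ≤ 3 := by
      have := card_le k (Cyc x) rfl _ (isNilpotent_map (cycHom x) _ hN')
      rwa [hk', M_vals.2.2.2.1] at this
    have hdvd : 3 ∣ Nat.card (N'.map (cycHom x)) := by
      have h := MulAction.index_stabilizer (N'.map (cycHom x)) o
      have huniv : MulAction.orbit (N'.map (cycHom x)) o = Set.univ := by
        rw [Set.eq_univ_iff_forall]
        intro o'
        obtain ⟨g, hg, hgo⟩ := cyc_trans x N' htr o o'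
        exact ⟨⟨cycHom x g, g, hg, rfl⟩, hgo⟩
      rw [huniv, Set.ncard_univ, ← hkdef, hk'] at h
      rw [← h]; exact Subgroup.index_dvd_card _
    have hall : ∀ g ∈ N', Perm.sign (cycHom x g) = 1 := by
      intro g hg
      have h3 : (cycHom x g) ^ 3 = 1 := by
        have h := pow_card_eq_one' (G := N'.map (cycHom x)) (x := ⟨cycHom x g, g, hg, rfl⟩)
        rw [show Nat.card (N'.map (cycHom x)) = 3 from
          le_antisymm hle3 (Nat.le_of_dvd Nat.card_pos hdvd)] at h
        exact congrArg Subtype.val h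
      have h := congrArg Perm.sign h3
      rw [map_pow, map_one] at h
      rcases Int.units_eq_one_or (Perm.sign (cycHom x g)) with e | e
      · exact e
      · rw [e] at h; norm_num at h
    calc _ ≤ B r * (B k * p ^ k) := Nat.mul_le_mul (hfixB hall) (Nat.mul_le_mul hcyc hker)
      _ = B r * B 9 := by rw [hk', hp']; simp [B_vals]
      _ ≤ B (r + 9) := B_mul_le _ _
      _ = _ := by rw [hk', hp', add_comm]
  · calc _ ≤ M r * (B k * p ^ k) := Nat.mul_le_mul hfix (Nat.mul_le_mul hcyc hker)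
      _ = p ^ k * B k * M r := by ring
      _ ≤ _ := pow_mul_B_mul_M_le hp hp2 (by omega)

end CfsgLib.NilpotentPerm
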