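import Cfsg.Agent.NilpotentPerm.Bound

/-! The nilpotent subgroups of maximal order in degree `n ≡ 3 (mod 4)`. -/

namespace CfsgLib.NilpotentPerm

open Equiv

section
variable {G : Type*} [Group G] [Finite G]

/-- A nilpotent group of order `3 * 2 ^ j` inside `G` is `⟨z⟩ ⊔ R`. -/
lemma exists_decomp (N : Subgroup G) (hN : Group.IsNilpotent N) {j : ℕ}
    (hcard : Nat.card N = 3 * 2 ^ j) :
    ∃ z : G, orderOf z = 3 ∧ z ∈ N ∧ N ≤ Subgroup.centralizer {z} ∧
      ∃ R : Subgroup G, R ≤ N ∧ IsPGroup 2 R ∧ Nat.card R = 2 ^ j ∧ N = Subgroup.zpowers z ⊔ R := by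
  haveI : Fact (Nat.Prime 3) := ⟨Nat.prime_three⟩
  obtain ⟨z, hz, hzo⟩ := exists_central hN (p := 3) (hcard ▸ dvd_mul_right 3 _)
  obtain ⟨P⟩ : Nonempty (Sylow 2 N) := inferInstance
  have hP : Nat.card (P : Subgroup N) = 2 ^ j := by
    rw [P.card_eq_multiplicity, hcard, Nat.factorization_mul (by norm_num) (by positivity)]
    simp [Nat.Prime.factorization_self Nat.prime_two, Nat.prime_three.factorization]
  refine ⟨z, (Subgroup.orderOf_coe z).trans hzo, z.2, ?_, (P : Subgroup N).map N.subtype,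
    Subgroup.map_subtype_le _, P.isPGroup'.map _,
    (Subgroup.card_map_of_injective N.subtype_injective).trans hP, ?_⟩
  · intro g hg
    rw [Subgroup.mem_centralizer_singleton_iff]
    exact congrArg Subtype.val (Subgroup.mem_center_iff.mp hz ⟨g, hg⟩)
  · symm
    have hle : Subgroup.zpowers (z : G) ⊔ (P : Subgroup N).map N.subtype ≤ N :=
      sup_le ((Subgroup.zpowers_le).mpr z.2) (Subgroup.map_subtype_le _)
    apply Subgroup.eq_of_le_of_card_ge hle
    rw [hcard]
    apply Nat.le_of_dvd Nat.card_pos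
    apply Nat.Coprime.mul_dvd_of_dvd_of_dvd (Nat.Coprime.pow_right j (by norm_num))
    · rw [show (3 : ℕ) = Nat.card (Subgroup.zpowers (z : G)) by
        rw [Nat.card_zpowers, Subgroup.orderOf_coe, hzo]]
      exact Subgroup.card_dvd_of_le le_sup_left
    · rw [← hP, ← Subgroup.card_map_of_injective N.subtype_injective]
      exact Subgroup.card_dvd_of_le le_sup_right

/-- Two such groups with conjugate `z` are conjugate. -/
lemma conj_of_bound {z₁ z₂ : G} (hz : IsConj z₁ z₂) {j : ℕ} (R₁ R₂ : Subgroup G)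
    (h1 : R₁ ≤ Subgroup.centralizer {z₁}) (h2 : R₂ ≤ Subgroup.centralizer {z₂})
    (hR1 : IsPGroup 2 R₁) (hR2 : IsPGroup 2 R₂)
    (hc1 : Nat.card R₁ = 2 ^ j) (hc2 : Nat.card R₂ = 2 ^ j)
    (hb : ∀ R : Subgroup G, R ≤ Subgroup.centralizer {z₂} → IsPGroup 2 R → Nat.card R ≤ 2 ^ j) :
    ∃ g : G, Subgroup.zpowers z₂ ⊔ R₂ =
      (Subgroup.zpowers z₁ ⊔ R₁).map (MulAut.conj g).toMonoidHom := by
  obtain ⟨g, hg⟩ := isConj_iff.mp hz
  set C := Subgroup.centralizer ({z₂} : Set G)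
  set R := R₁.map (MulAut.conj g).toMonoidHom
  have hRC : R ≤ C := by
    rintro _ ⟨u, hu, rfl⟩
    rw [Subgroup.mem_centralizer_singleton_iff, ← hg]
    have hu' := Subgroup.mem_centralizer_singleton_iff.mp (h1 hu)
    show g * u * g⁻¹ * (g * z₁ * g⁻¹) = g * z₁ * g⁻¹ * (g * u * g⁻¹)
    calc g * u * g⁻¹ * (g * z₁ * g⁻¹) = g * (u * z₁) * g⁻¹ := by group
      _ = g * (z₁ * u) * g⁻¹ := by rw [hu']
      _ = _ := by group
  have hcR : Nat.card R = 2 ^ j := (Subgroup.card_map_of_injective (MulAut.conj g).injective).trans hc1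
  have syl : ∀ Q : Subgroup G, Q ≤ C → IsPGroup 2 Q → Nat.card Q = 2 ^ j →
      ∃ P : Sylow 2 C, (P : Subgroup C).map C.subtype = Q := by
    intro Q hQC hQ hcQ
    obtain ⟨P, hP⟩ := (hQ.comap_subtype (K := C)).exists_le_sylow
    refine ⟨P, ?_⟩
    have hle : Q ≤ (P : Subgroup C).map C.subtype := fun q hq => ⟨⟨q, hQC hq⟩, hP hq, rfl⟩
    refine (Subgroup.eq_of_le_of_card_ge hle ?_).symm
    rw [hcQ]
    exact hb _ (Subgroup.map_subtype_le _) (P.isPGroup'.map _)
  obtain ⟨P₁, hP₁⟩ := syl R hRC (hR1.map _) hcR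
  obtain ⟨P₂, hP₂⟩ := syl R₂ h2 hR2 hc2
  obtain ⟨h, hh⟩ := MulAction.exists_smul_eq C P₁ P₂
  refine ⟨h * g, ?_⟩
  rw [Subgroup.map_sup, MonoidHom.map_zpowers]
  congr 1
  · congr 1
    show z₂ = (h : G) * g * z₁ * ((h : G) * g)⁻¹
    have hh' := Subgroup.mem_centralizer_singleton_iff.mp h.2
    calc z₂ = z₂ * (h : G) * (h : G)⁻¹ := by group
      _ = (h : G) * z₂ * (h : G)⁻¹ := by rw [hh']
      _ = (h : G) * (g * z₁ * g⁻¹) * (h : G)⁻¹ := by rw [hg]
      _ = _ := by group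
  · rw [← hP₂, ← hh, Sylow.coe_subgroup_smul]
    have : (MulAut.conj ((h : G) * g)).toMonoidHom =
        (MulAut.conj (h : G)).toMonoidHom.comp (MulAut.conj g).toMonoidHom := by
      ext u; simp [mul_assoc]
    rw [this, ← Subgroup.map_map, show R₁.map (MulAut.conj g).toMonoidHom = R from rfl, ← hP₁,
      Subgroup.map_map]
    ext u
    constructor
    · rintro ⟨_, ⟨v, hv, rfl⟩, rfl⟩
      exact ⟨v, hv, rfl⟩
    · rintro ⟨v, hv, rfl⟩
      exact ⟨_, ⟨v, hv, rfl⟩, rfl⟩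

end

lemma e_lt {n k r : ℕ} (hn : n % 4 = 3) (h : n = 3 * k + r) (hk : 2 ≤ k) :
    e k + e r < e (n - 3) := by
  rcases eq_or_lt_of_le hk with hk2 | hk3
  · subst hk2
    obtain ⟨q, rfl⟩ : ∃ q, r = 4 * q + 1 := ⟨r / 4, by omega⟩
    obtain ⟨-, h1, -⟩ := e_step q
    obtain ⟨h4, -⟩ := e_step (q + 1)
    have := e_mono (show q ≤ q + 1 by omega)
    have := e_small.1
    rw [show n - 3 = 4 * (q + 1) by omega, h4]
    omega
  · have h1 := e_add_le k r
    have h2 := e_add_le (k + r) (2 * k - 3)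
    have h3 := e_mono (show 3 ≤ 2 * k - 3 by omega)
    have := e_small.2.1
    rw [show k + r + (2 * k - 3) = n - 3 by omega] at h2
    omega

variable {Ω : Type} [Fintype Ω] [DecidableEq Ω]

lemma card_two_cent_le (z : Perm Ω) (hz : z ^ 3 = 1) (R : Subgroup (Perm Ω)) (hRC : R ≤ Cx z)
    (hR : IsPGroup 2 R) :
    Nat.card R ≤ 2 ^ (e (Nat.card (Cyc z)) + e (Nat.card (Fx z))) ∧
    ((∀ g ∈ R, Perm.sign g = 1) →
      (2 ≤ Nat.card (Cyc z) → 2 * Nat.card R ≤ 2 ^ (e (Nat.card (Cyc z)) + e (Nat.card (Fx z)))) ∧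
      (Nat.card (Cyc z) = 1 → 2 ≤ Nat.card (Fx z) →
        2 * Nat.card R ≤ 2 ^ (e (Nat.card (Cyc z)) + e (Nat.card (Fx z))))) := by
  classical
  haveI := Fintype.ofFinite (Cyc z)
  haveI : Fact (Nat.Prime 3) := ⟨Nat.prime_three⟩
  set R' := R.subgroupOf (Cx z)
  have hR' : IsPGroup 2 R' := hR.of_equiv (Subgroup.subgroupOfEquivOfLe hRC).symm
  have hc : Nat.card R' = Nat.card R := Nat.card_congr (Subgroup.subgroupOfEquivOfLe hRC).toEquiv
  have hk : (R' ⊓ kerBoth z : Subgroup (Cx z)) = ⊥ := by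
    rw [Subgroup.eq_bot_iff_forall]
    intro g hg
    obtain ⟨i, hi⟩ := hR' ⟨g, hg.1⟩
    have h3 := kerBoth_pow z Nat.prime_three hz hg.2
    have h2 : g ^ 2 ^ i = 1 := congrArg Subtype.val hi
    exact orderOf_eq_one_iff.mp (Nat.eq_one_of_dvd_coprimes
      (Nat.Coprime.pow_left i (by norm_num : Nat.Coprime 2 3))
      (orderOf_dvd_of_pow_eq_one h2) (orderOf_dvd_of_pow_eq_one h3))
  rw [← hc, card_factor z R', hk, Subgroup.card_bot, mul_one]
  have h1 := card_two_group_le _ (hR'.map (fixHom z))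
  have hn2 : IsPGroup 2 (Nfix z R') := hR'.to_le inf_le_left
  have h2 := card_two_group_le _ (hn2.map (cycHom z))
  refine ⟨?_, fun heven => ⟨?_, ?_⟩⟩
  · rw [add_comm, pow_add]; exact Nat.mul_le_mul h1 h2
  · intro h2k
    have h2' := two_mul_card_le _ (hn2.map (cycHom z)) (by
      rintro _ ⟨g, hg, rfl⟩
      have := sign_eq z Nat.prime_three hz ⟨1, rfl⟩ g
      rw [MonoidHom.mem_ker.mp hg.2, map_one, mul_one] at this
      rw [← this]; exact heven _ hg.1) h2k
    rw [add_comm, pow_add]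
    calc _ = Nat.card (R'.map (fixHom z)) * (2 * Nat.card ((Nfix z R').map (cycHom z))) := by ring
      _ ≤ _ := Nat.mul_le_mul h1 h2'
  · intro hk1 h2r
    haveI : Subsingleton (Cyc z) := (Nat.card_eq_one_iff_unique.mp hk1).1
    have h1' := two_mul_card_le _ (hR'.map (fixHom z)) (by
      rintro _ ⟨g, hg, rfl⟩
      have := sign_eq z Nat.prime_three hz ⟨1, rfl⟩ g
      rw [Subsingleton.elim (cycHom z g) 1, map_one, one_mul] at this
      rw [← this]; exact heven _ hg) h2r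
    rw [add_comm, pow_add]
    calc _ = 2 * Nat.card (R'.map (fixHom z)) * Nat.card ((Nfix z R').map (cycHom z)) := by ring
      _ ≤ _ := Nat.mul_le_mul h1' h2

lemma one_le_card_cyc (z : Perm Ω) (hz : z ≠ 1) : 1 ≤ Nat.card (Cyc z) := by
  obtain ⟨a, ha⟩ : ∃ a, z a ≠ a := by
    by_contra hc; push Not at hc; exact hz (Equiv.ext hc)
  haveI : Nonempty (Cyc z) := ⟨Quotient.mk _ ⟨a, ha⟩⟩
  exact Nat.card_pos

/-- in an extremal group the central element is a 3-cycle -/
lemma isThreeCycle_of_large (hn : Nat.card Ω % 4 = 3) (z : Perm Ω) (hzo : orderOf z = 3)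
    (R : Subgroup (Perm Ω)) (hRC : R ≤ Cx z) (hR : IsPGroup 2 R)
    (h : Nat.card R = 2 ^ e (Nat.card Ω - 3) ∨
      ((∀ g ∈ R, Perm.sign g = 1) ∧ 2 * Nat.card R = 2 ^ e (Nat.card Ω - 3))) :
    z.IsThreeCycle := by
  classical
  have hz3 : z ^ 3 = 1 := by rw [← hzo, pow_orderOf_eq_one]
  have hz1 : z ≠ 1 := by
    intro h1; rw [h1, orderOf_one] at hzo; omega
  have hcard := card_eq z Nat.prime_three hz3
  have hk := one_le_card_cyc z hz1
  obtain ⟨hb, hb'⟩ := card_two_cent_le z hz3 R hRC hR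
  have hk1 : Nat.card (Cyc z) = 1 := by
    by_contra hne
    have hlt := Nat.pow_lt_pow_right (show 1 < 2 by norm_num) (e_lt hn hcard (by omega))
    rcases h with h | ⟨heven, h⟩
    · omega
    · have := (hb' heven).1 (by omega); omega
  rw [← _root_.card_support_eq_three_iff]
  have : z.support.card = Nat.card (Mv z) := by
    rw [Nat.card_eq_fintype_card, Fintype.card_subtype]
    congr 1
  rw [this, ← Nat.card_congr (coord z Nat.prime_three hz3), Nat.card_prod, hk1]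
  simp

lemma card_two_cent_three_le (z : Perm Ω) (hz : z.IsThreeCycle) (R : Subgroup (Perm Ω))
    (hRC : R ≤ Cx z) (hR : IsPGroup 2 R) :
    Nat.card R ≤ 2 ^ e (Nat.card Ω - 3) ∧
      ((∀ g ∈ R, Perm.sign g = 1) → 5 ≤ Nat.card Ω → 2 * Nat.card R ≤ 2 ^ e (Nat.card Ω - 3)) := by
  classical
  have hz3 : z ^ 3 = 1 := by rw [← hz.orderOf, pow_orderOf_eq_one]
  have hcard := card_eq z Nat.prime_three hz3
  have hm : Nat.card (Mv z) = 3 := by
    rw [← hz.card_support, Nat.card_eq_fintype_card, Fintype.card_subtype]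
    congr 1
  have hk1 : Nat.card (Cyc z) = 1 := by
    rw [← Nat.card_congr (coord z Nat.prime_three hz3), Nat.card_prod, Nat.card_fin] at hm
    omega
  obtain ⟨hb, hb'⟩ := card_two_cent_le z hz3 R hRC hR
  have hr : Nat.card (Fx z) = Nat.card Ω - 3 := by omega
  rw [hk1, e_one, zero_add, hr] at hb
  refine ⟨hb, fun heven h5 => ?_⟩
  have := (hb' heven).2 hk1 (by omega)
  rwa [hk1, e_one, zero_add, hr] at this

/-- `C₃` acting on three points -/
def rot : Multiplicative (ZMod 3) →* Perm (Fin 3) where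
  toFun a := Equiv.addLeft (a.toAdd : Fin 3)
  map_one' := by decide
  map_mul' := by decide

lemma rot_injective : Function.Injective rot := by
  intro a b
  revert a b
  decide

lemma sign_rot (a : Multiplicative (ZMod 3)) : Perm.sign (rot a) = 1 := by
  revert a; decide

/-- embedding `Perm (Fin (n - 3)) × C₃ → Perm (Fin n)` -/
def emb (n : ℕ) (h : 3 ≤ n) : Perm (Fin (n - 3)) × Multiplicative (ZMod 3) →* Perm (Fin n) :=
  ((finSumFinEquiv.trans (finCongr (Nat.sub_add_cancel h))).permCongrHom.toMonoidHom.comp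
    ((Perm.sumCongrHom (Fin (n - 3)) (Fin 3)).comp ((MonoidHom.id _).prodMap rot)))

lemma emb_injective (n : ℕ) (h : 3 ≤ n) : Function.Injective (emb n h) := by
  intro u v huv
  have h' : Perm.sumCongrHom (Fin (n - 3)) (Fin 3) (u.1, rot u.2) =
      Perm.sumCongrHom (Fin (n - 3)) (Fin 3) (v.1, rot v.2) :=
    ((finSumFinEquiv.trans (finCongr (Nat.sub_add_cancel h))).permCongrHom).injective huv
  have h'' := Perm.sumCongrHom_injective h'
  exact Prod.ext (congrArg Prod.fst h'' :) (rot_injective (congrArg Prod.snd h'' :))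

lemma sign_emb (n : ℕ) (h : 3 ≤ n) (u : Perm (Fin (n - 3)) × Multiplicative (ZMod 3)) :
    Perm.sign (emb n h u) = Perm.sign u.1 := by
  show Perm.sign ((finSumFinEquiv.trans (finCongr (Nat.sub_add_cancel h))).permCongr
    (Equiv.sumCongr u.1 (rot u.2))) = _
  rw [Perm.sign_permCongr, Perm.sign_sumCongr, sign_rot, mul_one]

lemma card_sylow_perm (m : ℕ) (P : Sylow 2 (Perm (Fin m))) : Nat.card P = 2 ^ e m := by
  rw [P.card_eq_multiplicity, Nat.card_perm, Nat.card_fin, Nat.factorization_def _ Nat.prime_two]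
  rfl

lemma card_sylow_alt (m : ℕ) (hm : 2 ≤ m) (P : Sylow 2 (alternatingGroup (Fin m))) :
    2 * Nat.card P = 2 ^ e m := by
  haveI : Nontrivial (Fin m) := Fin.nontrivial_iff_two_le.mpr hm
  have h := two_mul_card_alternatingGroup (α := Fin m)
  rw [P.card_eq_multiplicity, ← pow_succ']
  congr 1
  have h' : 2 * Nat.card (alternatingGroup (Fin m)) = m.factorial := by
    rw [Nat.card_eq_fintype_card, h, Fintype.card_perm, Fintype.card_fin]
  unfold e
  rw [← Nat.factorization_def _ Nat.prime_two, ← h',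
    Nat.factorization_mul (by norm_num) Nat.card_pos.ne']
  simp [Nat.Prime.factorization_self Nat.prime_two]
  omega

end CfsgLib.NilpotentPerm
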